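import Cfsg.Agent.FFBlocks.SymBlock
import Cfsg.Prelude.Def_BaumannBlocks

/-!
From a configuration on the conjugation module to subgroups of the ambient group.
-/

set_option autoImplicit false
set_option linter.style.haveILetI false
set_option linter.unusedSectionVars false

namespace CfsgLib.FFBlocks

open Subgroup CfsgLib.SL2Recognition CfsgLib.FFCells
open scoped IsMulCommutative MatrixGroups commutatorElement

variable {G : Type*} [Group G] {V P : Subgroup G} [IsMulCommutative V]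

/-- The conjugation action on an abelian subgroup, additively. -/
def convRep (hPV : P ≤ normalizer (V : Set G)) : P →* AddMonoid.End (Additive V) where
  toFun x := AddMonoidHom.mk'
    (fun w => Additive.ofMul
      (⟨(x : G) * ((Additive.toMul w : V) : G) * (x : G)⁻¹,
        (mem_normalizer_iff.1 (hPV x.2) _).1 (Additive.toMul w : V).2⟩ : V))
    fun a b => Subtype.ext (by
      show (x : G) * (((Additive.toMul a : V) : G) * ((Additive.toMul b : V) : G)) * (x : G)⁻¹ = _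
      show _ = ((x : G) * ((Additive.toMul a : V) : G) * (x : G)⁻¹) *
        ((x : G) * ((Additive.toMul b : V) : G) * (x : G)⁻¹)
      group)
  map_one' := AddMonoidHom.ext fun w => Subtype.ext (by
    show ((1 : P) : G) * ((Additive.toMul w : V) : G) * ((1 : P) : G)⁻¹ = ((Additive.toMul w : V) : G)
    simp)
  map_mul' x y := AddMonoidHom.ext fun w => Subtype.ext (by
    show ((x * y : P) : G) * ((Additive.toMul w : V) : G) * ((x * y : P) : G)⁻¹ =
      (x : G) * ((y : G) * ((Additive.toMul w : V) : G) * (y : G)⁻¹) * (x : G)⁻¹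
    simp [mul_assoc])

theorem convRep_eq_one_iff (hPV : P ≤ normalizer (V : Set G)) {x : P} :
    convRep hPV x = 1 ↔ (x : G) ∈ centralizer (V : Set G) := by
  constructor
  · intro h
    refine mem_centralizer_iff.2 fun v hv => ?_
    have h1 := congrArg (fun f : AddMonoid.End (Additive V) =>
      ((Additive.toMul (f (Additive.ofMul (⟨v, hv⟩ : V))) : V) : G)) h
    have h2 : (x : G) * v * (x : G)⁻¹ = v := h1
    exact (mul_inv_eq_iff_eq_mul.1 h2).symm
  · intro h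
    refine AddMonoidHom.ext fun w => Subtype.ext ?_
    show (x : G) * ((Additive.toMul w : V) : G) * (x : G)⁻¹ = ((Additive.toMul w : V) : G)
    rw [← mem_centralizer_iff.1 h _ (Additive.toMul w : V).2, mul_inv_cancel_right]

/-- An action of `Q` on `V` induced by conjugation through `π`. -/
structure Act {Q : Type*} [Group Q] (π : P →* Q) (σ : Q →* AddMonoid.End (Additive V)) : Prop where
  norm : P ≤ normalizer (V : Set G)
  surj : Function.Surjective π
  conj : ∀ (x : P) (w : Additive V),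
    ((Additive.toMul (σ (π x) w) : V) : G) = (x : G) * ((Additive.toMul w : V) : G) * (x : G)⁻¹
  inj : Function.Injective σ

variable {Q : Type*} [Group Q]

/-- The subgroup of `G` over a subgroup of `Q`. -/
def up (π : P →* Q) (Y : Subgroup Q) : Subgroup G := (Y.comap π).map P.subtype

/-- The subgroup of `G` of an additive subgroup of the module. -/
def toG (U : AddSubgroup (Additive V)) : Subgroup G := (AddSubgroup.toSubgroup' U).map V.subtype

theorem mem_up {π : P →* Q} {Y : Subgroup Q} {x : G} : x ∈ up π Y ↔ ∃ h : x ∈ P, π ⟨x, h⟩ ∈ Y :=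
  ⟨fun ⟨y, hy, e⟩ => e ▸ ⟨y.2, hy⟩, fun ⟨h, hy⟩ => ⟨⟨x, h⟩, hy, rfl⟩⟩

theorem up_le {π : P →* Q} {Y : Subgroup Q} : up π Y ≤ P := map_subtype_le _

theorem up_mono {π : P →* Q} {Y Z : Subgroup Q} (h : Y ≤ Z) : up π Y ≤ up π Z :=
  map_mono (comap_mono h)

theorem mem_toG {U : AddSubgroup (Additive V)} {x : G} :
    x ∈ toG U ↔ ∃ h : x ∈ V, Additive.ofMul (⟨x, h⟩ : V) ∈ U :=
  ⟨fun ⟨y, hy, e⟩ => e ▸ ⟨y.2, hy⟩, fun ⟨h, hy⟩ => ⟨⟨x, h⟩, hy, rfl⟩⟩

theorem up_iSup {π : P →* Q} (hπ : Function.Surjective π) {ι : Type*} [Nonempty ι]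
    (Y : ι → Subgroup Q) : up π (⨆ i, Y i) = ⨆ i, up π (Y i) := by
  simp only [up]
  rw [← Subgroup.map_iSup]
  refine congrArg (Subgroup.map P.subtype) ?_
  have e : (⨆ i, Y i) = (⨆ i, (Y i).comap π).map π := by
    rw [Subgroup.map_iSup]
    exact iSup_congr fun i => (map_comap_eq_self_of_surjective hπ _).symm
  rw [e, comap_map_eq, sup_eq_left]
  obtain ⟨i⟩ := ‹Nonempty ι›
  exact le_trans (fun x hx => show π x ∈ Y i by rw [MonoidHom.mem_ker.1 hx]; exact one_mem _)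
    (le_iSup (fun i => (Y i).comap π) i)

theorem up_cj {π : P →* Q} (t : P) (Y : Subgroup Q) :
    (up π Y).map (MulAut.conj (t : G)).toMonoidHom = up π (cj (π t) Y) := by
  refine SetLike.ext fun x => ?_
  show x ∈ cj (t : G) (up π Y) ↔ _
  rw [mem_cj, mem_up, mem_up]
  constructor
  · rintro ⟨h, hy⟩
    have hx : x ∈ P := by simpa [mul_assoc] using mul_mem (mul_mem t.2 h) (inv_mem t.2)
    refine ⟨hx, mem_cj.2 ?_⟩
    have e : (π t)⁻¹ * π ⟨x, hx⟩ * π t = π (t⁻¹ * ⟨x, hx⟩ * t) := by simp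
    rw [e]; exact hy
  · rintro ⟨hx, hy⟩
    refine ⟨mul_mem (mul_mem (inv_mem t.2) hx) t.2, ?_⟩
    have e : (π t)⁻¹ * π ⟨x, hx⟩ * π t = π (t⁻¹ * ⟨x, hx⟩ * t) := by simp
    have h1 := mem_cj.1 hy
    rw [e] at h1; exact h1

namespace Act

variable {π : P →* Q} {σ : Q →* AddMonoid.End (Additive V)} (h : Act π σ)
include h

theorem pi_eq_one_iff {x : P} : π x = 1 ↔ (x : G) ∈ centralizer (V : Set G) := by
  rw [← convRep_eq_one_iff h.norm]
  have e : σ (π x) = convRep h.norm x := AddMonoidHom.ext fun w => Subtype.ext (h.conj x w)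
  rw [← e]
  exact (map_eq_one_iff σ h.inj).symm

theorem up_bot : up π ⊥ = P ⊓ centralizer (V : Set G) := SetLike.ext fun x => by
  rw [mem_up, Subgroup.mem_inf]
  constructor
  · rintro ⟨hx, hy⟩; exact ⟨hx, h.pi_eq_one_iff.1 (mem_bot.1 hy)⟩
  · rintro ⟨hx, hy⟩; exact ⟨hx, mem_bot.2 (h.pi_eq_one_iff.2 hy)⟩

theorem mem_fix {Y : Subgroup Q} {w : Additive V} :
    w ∈ fix σ Y ↔ ((Additive.toMul w : V) : G) ∈ centralizer (up π Y : Set G) := by
  constructor
  · intro hw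
    refine mem_centralizer_iff.2 fun y hy => ?_
    obtain ⟨hyP, hyY⟩ := mem_up.1 hy
    have h1 := h.conj ⟨y, hyP⟩ w
    rw [hw _ hyY] at h1
    exact (eq_mul_inv_iff_mul_eq.1 h1).symm
  · intro hw q hq
    obtain ⟨x, rfl⟩ := h.surj q
    have hwx := mem_centralizer_iff.1 hw (x : G) (mem_up.2 ⟨x.2, hq⟩)
    refine Additive.toMul.injective (Subtype.ext ?_)
    rw [h.conj, hwx, mul_inv_cancel_right]

theorem commutator_eq (Y : Subgroup Q) : ⁅V, up π Y⁆ = toG (commSub σ Y) := by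
  refine le_antisymm (commutator_le.2 fun v hv y hy => ?_) ?_
  · obtain ⟨hyP, hyY⟩ := mem_up.1 hy
    set w : Additive V := Additive.ofMul (⟨v, hv⟩⁻¹ : V)
    have h1 := sub_mem_commSub (σ := σ) hyY w
    refine mem_toG.2 ⟨?_, ?_⟩
    · rw [commutatorElement_def]
      have := mul_mem hv ((mem_normalizer_iff.1 (h.norm hyP) _).1 (inv_mem hv))
      simpa [mul_assoc] using this
    · refine (congrArg (· ∈ commSub σ Y) ?_).mpr h1
      refine Additive.toMul.injective (Subtype.ext ?_)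
      show ⁅v, y⁆ = ((Additive.toMul (σ (π ⟨y, hyP⟩) w) / Additive.toMul w : V) : G)
      rw [show (Additive.toMul (σ (π ⟨y, hyP⟩) w) / Additive.toMul w : V) =
        Additive.toMul (σ (π ⟨y, hyP⟩) w) * (Additive.toMul w)⁻¹ from div_eq_mul_inv _ _,
        show (Additive.toMul (σ (π ⟨y, hyP⟩) w) * (Additive.toMul w)⁻¹ : V) =
          (Additive.toMul w)⁻¹ * Additive.toMul (σ (π ⟨y, hyP⟩) w) from mul_comm _ _,
        Subgroup.coe_mul, h.conj, commutatorElement_def]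
      simp [w, mul_assoc]
  · rintro _ ⟨u, hu, rfl⟩
    change Additive.ofMul u ∈ commSub σ Y at hu
    have key : ∀ w ∈ commSub σ Y, ((Additive.toMul w : V) : G) ∈ ⁅V, up π Y⁆ := by
      intro w hw
      induction hw using AddSubgroup.closure_induction with
      | mem w hw =>
        obtain ⟨q, hq, v, rfl⟩ := hw
        obtain ⟨x, rfl⟩ := h.surj q
        have h1 : ((Additive.toMul (σ (π x) v - v) : V) : G) =
            ⁅(((Additive.toMul v : V)⁻¹ : V) : G), (x : G)⁆ := by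
          rw [show Additive.toMul (σ (π x) v - v) =
            (Additive.toMul v)⁻¹ * Additive.toMul (σ (π x) v) from
              (div_eq_mul_inv _ _).trans (mul_comm _ _),
            Subgroup.coe_mul, h.conj, commutatorElement_def]
          simp [mul_assoc]
        rw [h1]
        exact commutator_mem_commutator (SetLike.coe_mem _) (mem_up.2 ⟨x.2, hq⟩)
      | zero => exact one_mem _
      | add a b _ _ ha hb => exact mul_mem ha hb
      | neg a _ ha => exact inv_mem ha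
    exact key _ hu

/-- A block as a group acting on a section. -/
theorem exists_section (Y : Subgroup Q) {W R : Type*} [AddCommGroup W] [Group R] (ρ : Y ≃* R)
    (ψ : Additive V →+ W) (smul : R → W → W) (hker : ∀ v, ψ v = 0 ↔ v ∈ fix σ Y)
    (he : ∀ (g : Y) v, ψ (σ g v) = smul (ρ g) (ψ v)) :
    up π Y ≤ normalizer ((⁅V, up π Y⁆ : Subgroup G) : Set G) ∧
      ∃ (r : ↥(up π Y) →* R) (f : ↥(⁅V, up π Y⁆ : Subgroup G) →* Multiplicative W),
        Function.Surjective r ∧ r.range = ⊤ ∧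
        r.ker = (P ⊓ centralizer (V : Set G)).subgroupOf (up π Y) ∧
        (∀ v ∈ commSub σ Y, ∃ u, Multiplicative.toAdd (f u) = ψ v) ∧
        (∀ u, ∃ v : Additive V, Multiplicative.toAdd (f u) = ψ v) ∧
        (∀ u, f u = 1 ↔ (u : G) ∈ ⁅V, up π Y⁆ ⊓ centralizer ((up π Y : Subgroup G) : Set G)) ∧
        ∀ (e : ↥(up π Y)) (u : ↥(⁅V, up π Y⁆ : Subgroup G)),
          ∃ w : ↥(⁅V, up π Y⁆ : Subgroup G), (w : G) = (e : G) * (u : G) * (e : G)⁻¹ ∧
          Multiplicative.toAdd (f w) = smul (r e) (Multiplicative.toAdd (f u)) := by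
  have hn : up π Y ≤ normalizer ((⁅V, up π Y⁆ : Subgroup G) : Set G) :=
    normalizer_commutator_ge_right _ _
  have hUV : ∀ u : ↥(⁅V, up π Y⁆ : Subgroup G), (u : G) ∈ V := fun u =>
    (mem_toG.1 ((h.commutator_eq Y).le u.2)).1
  let b : ↥(up π Y) →* Y := MonoidHom.mk' (fun e => ⟨π ⟨e, up_le e.2⟩, (mem_up.1 e.2).2⟩)
    fun e e' => Subtype.ext (map_mul π ⟨e, up_le e.2⟩ ⟨e', up_le e'.2⟩)
  have hb : Function.Surjective b := fun y => by
    obtain ⟨x, hx⟩ := h.surj y.1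
    exact ⟨⟨x, mem_up.2 ⟨x.2, show π x ∈ Y by rw [hx]; exact y.2⟩⟩, Subtype.ext hx⟩
  let f : ↥(⁅V, up π Y⁆ : Subgroup G) →* Multiplicative W :=
    MonoidHom.mk' (fun u => Multiplicative.ofAdd (ψ (Additive.ofMul (⟨u, hUV u⟩ : V)))) fun u u' => by
      rw [← ofAdd_add, ← map_add]; rfl
  have hr : Function.Surjective ((ρ.toMonoidHom).comp b) := ρ.surjective.comp hb
  refine ⟨hn, (ρ.toMonoidHom).comp b, f, hr, MonoidHom.range_eq_top.2 hr, ?_, fun v hv => ?_,
    fun u => ⟨_, rfl⟩, fun u => ?_, fun e u => ?_⟩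
  · refine SetLike.ext fun e => ?_
    rw [MonoidHom.mem_ker, mem_subgroupOf]
    show ρ (b e) = 1 ↔ _
    rw [map_eq_one_iff ρ ρ.injective, Subgroup.mem_inf, and_iff_right (up_le e.2)]
    exact Subtype.ext_iff.trans (h.pi_eq_one_iff (x := ⟨e, up_le e.2⟩))
  · refine ⟨⟨((Additive.toMul v : V) : G), (h.commutator_eq Y).ge
      (mem_toG.2 ⟨(Additive.toMul v : V).2, hv⟩)⟩, rfl⟩
  · rw [Subgroup.mem_inf, and_iff_right u.2]
    show Multiplicative.ofAdd _ = 1 ↔ _
    rw [ofAdd_eq_one, hker, h.mem_fix]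
    rfl
  · refine ⟨⟨_, (mem_normalizer_iff.1 (hn e.2) _).1 u.2⟩, rfl, ?_⟩
    show ψ _ = smul (ρ (b e)) (ψ _)
    rw [← he]
    congr 1
    exact Additive.toMul.injective (Subtype.ext
      (h.conj ⟨e, up_le e.2⟩ (Additive.ofMul (⟨u, hUV u⟩ : V))).symm)

variable [Finite G] [Finite Q] {p : ℕ} [Fact p.Prime]

/-- The blocks in `G`. -/
theorem exists_blocks {T : Subgroup Q} {𝒞 : Set (Subgroup Q × Subgroup Q)} (hC : Config σ p T 𝒞)
    {S : Subgroup P} (hS : T ≤ S.map π) :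
    ∃ (r : ℕ) (E : Fin r → Subgroup G), 1 ≤ r ∧ (∀ i, E i ≤ P) ∧
      (∀ i, P ⊓ centralizer (V : Set G) ≤ E i) ∧
      (∀ i j, i ≠ j → ⁅E i, E j⁆ ≤ P ⊓ centralizer (V : Set G)) ∧
      (∀ i, E i ⊓ (⨆ j ∈ {j | j ≠ i}, E j) ≤ P ⊓ centralizer (V : Set G)) ∧
      (⨆ i, E i) = up π (grpsJoin 𝒞) ∧
      (∀ i j, ∃ t ∈ S.map P.subtype, (E i).map (MulAut.conj t).toMonoidHom = E j) ∧
      (V ⊓ centralizer (((⨆ i, E i) : Subgroup G) : Set G)) ⊔ (⨆ i, ⁅V, E i⁆) = V ∧
      (∀ i j, i ≠ j → ⁅⁅V, E i⁆, E j⁆ = ⊥) ∧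
      ∀ i, ∃ n : ℕ, 1 ≤ n ∧
        ((∃ (F : Type) (_ : Field F) (_ : Fintype F), Fintype.card F = p ^ n ∧
            (∃ g : ↥(E i) →* SL(2, F), Function.Surjective g ∧
              g.ker = (P ⊓ centralizer (V : Set G)).subgroupOf (E i)) ∧
            Cfsg.ActsAsSL2OnSection F ⊤ (E i) ⁅V, E i⁆
              (⁅V, E i⁆ ⊓ centralizer ((E i : Subgroup G) : Set G))) ∨
          (p = 2 ∧ (∃ g : ↥(E i) →* Equiv.Perm (Fin (2 ^ n + 1)), Function.Surjective g ∧
              g.ker = (P ⊓ centralizer (V : Set G)).subgroupOf (E i)) ∧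
            Cfsg.ActsAsOddPermModuleOnSection (2 ^ n + 1) ⊤ (E i) ⁅V, E i⁆
              (⁅V, E i⁆ ⊓ centralizer ((E i : Subgroup G) : Set G)))) := by
  classical
  haveI : Nonempty (Blk σ 𝒞) := by
    obtain ⟨c, hc⟩ := hC.nonempty
    exact ⟨⟨blk σ 𝒞 c, c, hc, rfl⟩⟩
  haveI : Fintype (Blk σ 𝒞) := Fintype.ofFinite _
  set e := (Fintype.equivFin (Blk σ 𝒞)).symm
  set E : Fin (Fintype.card (Blk σ 𝒞)) → Subgroup G := fun i => up π (grpsJoin (e i).1) with hE
  have hsup : (⨆ i, E i) = up π (grpsJoin 𝒞) := by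
    rw [grps_eq_iSup (σ := σ), up_iSup h.surj]
    exact e.surjective.iSup_comp (g := fun B : Blk σ 𝒞 => up π (grpsJoin B.1))
  have hne : ∀ {i j}, i ≠ j → e i ≠ e j := fun h1 h2 => h1 (e.injective h2)
  refine ⟨_, E, Fintype.card_pos, fun i => up_le,
    fun i => h.up_bot.ge.trans (up_mono bot_le), fun i j hij => ?_, fun i => ?_, hsup, fun i j => ?_,
    ?_, fun i j hij => ?_, fun i => ?_⟩
  · refine commutator_le.2 fun x hx y hy => ?_
    obtain ⟨hxP, hxY⟩ := mem_up.1 hx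
    obtain ⟨hyP, hyY⟩ := mem_up.1 hy
    refine h.up_bot.le (mem_up.2 ⟨by
      rw [commutatorElement_def]; exact mul_mem (mul_mem (mul_mem hxP hyP) (inv_mem hxP)) (inv_mem hyP),
      mem_bot.2 ?_⟩)
    show π ⁅(⟨x, hxP⟩ : P), ⟨y, hyP⟩⁆ = 1
    rw [map_commutatorElement, commutatorElement_eq_one_iff_commute]
    exact (orth_blk hC (hne hij)).commute h.inj hxY hyY
  · intro x hx
    obtain ⟨hxi, hxr⟩ := Subgroup.mem_inf.1 hx
    obtain ⟨hxP, hxY⟩ := mem_up.1 hxi
    have hle : (⨆ j ∈ {j | j ≠ i}, E j) ≤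
        up π (⨆ B' : {B' : Blk σ 𝒞 // B' ≠ e i}, grpsJoin B'.1.1) :=
      iSup₂_le fun j hj => up_mono
        (le_iSup (fun B' : {B' : Blk σ 𝒞 // B' ≠ e i} => grpsJoin B'.1.1) ⟨e j, hne hj⟩)
    obtain ⟨hxP', hxR⟩ := mem_up.1 (hle hxr)
    exact h.up_bot.le (mem_up.2 ⟨hxP, (inf_iSup_eq_bot hC (e i)).le ⟨hxY, hxR⟩⟩)
  · obtain ⟨t, ht, h1, -⟩ := exists_cj_blk hC (e i) (e j)
    obtain ⟨x, hx, rfl⟩ := hS ht
    exact ⟨x, ⟨x, hx, rfl⟩, by rw [hE, up_cj, h1]⟩
  · refine le_antisymm (sup_le inf_le_left (iSup_le fun i =>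
      le_normalizer_iff_commutator_le_left.1 (up_le.trans h.norm))) fun v hv => ?_
    obtain ⟨a, ha, b, hb, hab⟩ := AddSubgroup.mem_sup.1 (mem_decomp hC (Additive.ofMul (⟨v, hv⟩ : V)))
    have key : v = ((Additive.toMul a : V) : G) * ((Additive.toMul b : V) : G) :=
      (congrArg (fun w : Additive V => ((Additive.toMul w : V) : G)) hab).symm
    rw [key]
    refine mul_mem (mem_sup_left ⟨(Additive.toMul a : V).2, ?_⟩) (mem_sup_right ?_)
    · rw [hsup]; exact h.mem_fix.1 ha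
    · clear hab key
      induction hb using AddSubgroup.iSup_induction' with
      | hp c w hw =>
        obtain ⟨i, hi⟩ := e.surjective ⟨blk σ 𝒞 c.1, c.1, c.2, rfl⟩
        refine le_iSup (fun i => ⁅V, E i⁆) i ((h.commutator_eq _).ge (mem_toG.2 ⟨(Additive.toMul w : V).2, ?_⟩))
        · exact commSub_mono (by
            rw [hi]
            exact le_iSup (fun d : blk σ 𝒞 c.1 => d.1.2) ⟨c.1, c.2, Or.inl rfl⟩) hw
      | h1 => exact one_mem _
      | hadd a b _ _ h1 h2 => exact mul_mem h1 h2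
  · refine commutator_eq_bot_iff_le_centralizer.2 ?_
    rw [h.commutator_eq]
    rintro _ ⟨u, hu, rfl⟩
    refine mem_centralizer_iff.2 fun y hy => ?_
    obtain ⟨hyP, hyY⟩ := mem_up.1 hy
    have h1 : Additive.ofMul u ∈ fix σ (grpsJoin (e j).1) := fun z hz =>
      fix_commSub (fun x hx v => (orth_blk hC (hne hij) x hx z hz v).2) hu
    exact mem_centralizer_iff.1 (h.mem_fix.1 h1) y hy
  · rcases Nat.lt_or_ge 1 (Nat.card (e i).1) with hk | hk
    · obtain ⟨hp, n, hn, ρ, ψ, h1, hs, h0, hact⟩ := exists_sym hC (e i) hk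
      obtain ⟨hnorm, g, f, hg, hgr, hgk, hfs, hfv, hfk, hfe⟩ := h.exists_section _ ρ ψ
        (fun r w i => w (r⁻¹ i)) h0 fun x v => funext fun k => hact x v k
      refine ⟨n, hn, Or.inr ⟨hp, ⟨g, hg, hgk⟩, hnorm, inf_le_left, g, f, hgr, fun u => ?_,
        fun w hw => ?_, hfk, fun x u => ?_⟩⟩
      · obtain ⟨v, hv⟩ := hfv u; rw [hv]; exact h1 v
      · obtain ⟨v, hv, rfl⟩ := hs w hw; exact hfs v hv
      · obtain ⟨w, hw, hw'⟩ := hfe x u; exact ⟨w, hw, fun k => congrFun hw' k⟩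
    · obtain ⟨c, hc⟩ := blk_nonempty (e i)
      have hsing : ∀ d ∈ (e i).1, d = c := by
        intro d hd
        haveI : Subsingleton (e i).1 := Finite.card_le_one_iff_subsingleton.1 hk
        exact congrArg Subtype.val (Subsingleton.elim (⟨d, hd⟩ : (e i).1) ⟨c, hc⟩)
      have hY : grpsJoin (e i).1 = c.2 := le_antisymm
        (iSup_le fun d => by rw [hsing d.1 d.2]) (le_iSup (fun d : (e i).1 => d.1.2) ⟨c, hc⟩)
      obtain ⟨D⟩ := hC.pre.fam.cell c (blk_subset _ hc)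
      obtain ⟨hnorm, g, f, hg, hgr, hgk, hfs, hfv, hfk, hfe⟩ :=
        h.exists_section c.2 D.φ D.ψ (fun r w => r.1.mulVec w) D.ker D.equiv
      haveI := D.charP hC.pre.exp
      obtain ⟨n, -, hn⟩ := FiniteField.card D.F p
      refine ⟨n, n.pos, Or.inl ⟨D.F, D.fld, D.fin, hn, ?_⟩⟩
      rw [show E i = up π c.2 from congrArg (up π) hY]
      refine ⟨⟨g, hg, hgk⟩, hnorm, inf_le_left, g, f, hgr, fun w => ?_, hfk, hfe⟩
      obtain ⟨x₀, hx₀⟩ := D.surj ![0, (Multiplicative.toAdd w) 0]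
      obtain ⟨x₁, hx₁⟩ := D.surj ![(Multiplicative.toAdd w) 1, 0]
      obtain ⟨u, hu⟩ := hfs _ (add_mem (sub_mem_commSub (σ := σ) (D.u_memL 1) x₀)
        (sub_mem_commSub (σ := σ) (D.low_mem 1) x₁))
      refine ⟨u, Multiplicative.toAdd.injective ?_⟩
      rw [hu, map_add, D.ψ_apply_sub, D.ψ_low_sub, hx₀, hx₁]
      ext k; fin_cases k <;> simp

end Act

end CfsgLib.FFBlocks
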