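import Cfsg.Agent.FFCells.Cross

/-!
The blocks of a configuration: classes of cells under linking, their groups, and the decomposition of the
module and of the group.
-/

set_option autoImplicit false
set_option linter.style.haveILetI false
set_option linter.unusedSectionVars false

namespace CfsgLib.FFBlocks

open Subgroup CfsgLib.SL2Recognition CfsgLib.FFCells

variable {P V : Type*} [Group P] [AddCommGroup V] {σ : P →* AddMonoid.End V}

/-- The subgroup of `V` generated by the commutators with `X`. -/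
def commSub (σ : P →* AddMonoid.End V) (X : Subgroup P) : AddSubgroup V :=
  AddSubgroup.closure {w | ∃ x ∈ X, ∃ v, σ x v - v = w}

theorem sub_mem_commSub {X : Subgroup P} {x : P} (hx : x ∈ X) (v : V) : σ x v - v ∈ commSub σ X :=
  AddSubgroup.subset_closure ⟨x, hx, v, rfl⟩

theorem commSub_mono {X Y : Subgroup P} (h : X ≤ Y) : commSub σ X ≤ commSub σ Y :=
  AddSubgroup.closure_mono fun _ ⟨x, hx, v, e⟩ => ⟨x, h hx, v, e⟩

/-- `g` fixes everything in `commSub X` when it fixes the commutators. -/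
theorem fix_commSub {X : Subgroup P} {g : P} (h : ∀ x ∈ X, ∀ v, σ g (σ x v - v) = σ x v - v) {w : V}
    (hw : w ∈ commSub σ X) : σ g w = w := by
  induction hw using AddSubgroup.closure_induction with
  | mem w hw => obtain ⟨x, hx, v, rfl⟩ := hw; exact h x hx v
  | zero => exact map_zero _
  | add a b _ _ ha hb => rw [map_add, ha, hb]
  | neg a _ ha => rw [map_neg, ha]

/-- Two cells are the same or not orthogonal. -/
def Rel (σ : P →* AddMonoid.End V) (c d : Subgroup P × Subgroup P) : Prop :=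
  c = d ∨ ¬ Orth σ c.2 d.2

/-- The class of a cell. -/
def blk (σ : P →* AddMonoid.End V) (𝒞 : Set (Subgroup P × Subgroup P)) (c : Subgroup P × Subgroup P) :
    Set (Subgroup P × Subgroup P) := {d ∈ 𝒞 | Rel σ c d}

/-- The classes. -/
abbrev Blk (σ : P →* AddMonoid.End V) (𝒞 : Set (Subgroup P × Subgroup P)) :=
  {B : Set (Subgroup P × Subgroup P) // ∃ c ∈ 𝒞, blk σ 𝒞 c = B}

theorem Rel.symm {c d : Subgroup P × Subgroup P} (h : Rel σ c d) : Rel σ d c :=
  h.imp Eq.symm fun h' ho => h' ho.symm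

theorem Rel.map_cj {c d : Subgroup P × Subgroup P} (h : Rel σ c d) (g : P) :
    Rel σ (cj g c.1, cj g c.2) (cj g d.1, cj g d.2) := by
  refine h.imp (fun e => by rw [e]) fun h' ho => h' ?_
  simpa [cj_inv_cj] using ho.map_cj g⁻¹

variable [Finite P] [Finite V] {p : ℕ} [Fact p.Prime]

/-- A cell with two-element root has `v + v = 0`. -/
theorem add_self_of_card {B L : Subgroup P} (D : CellData σ B L) (hp0 : ∀ v : V, p • v = 0)
    (hq : Nat.card B = 2) : p = 2 ∧ ∀ v : V, v + v = 0 := by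
  haveI := D.charP hp0
  have hp : p = 2 := by
    have hd : p ∣ Nat.card D.F := by
      rw [Nat.card_eq_fintype_card]; exact CfsgLib.Linear.prime_dvd_card p
    rw [← D.card_root, hq] at hd
    exact (Nat.prime_dvd_prime_iff_eq Fact.out Nat.prime_two).1 hd
  exact ⟨hp, fun v => by rw [← two_nsmul, ← hp]; exact hp0 v⟩

variable {T : Subgroup P} {𝒞 : Set (Subgroup P × Subgroup P)} (hC : Config σ p T 𝒞)
include hC

theorem not_orth_of_linked {c d : Subgroup P × Subgroup P} (hc : c ∈ 𝒞) (hd : d ∈ 𝒞)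
    (h : Linked σ c d) : ¬ Orth σ c.2 d.2 := by
  intro ho
  obtain ⟨D⟩ := hC.pre.fam.cell c hc
  obtain ⟨D'⟩ := hC.pre.fam.cell d hd
  obtain ⟨t⟩ := D.exists_triple h.1
  obtain ⟨u⟩ := D'.exists_triple h.2.1
  obtain ⟨-, h2⟩ := add_self_of_card D hC.pre.exp h.1
  obtain ⟨⟨v, hv⟩, -⟩ := h.2.2 t.d t.memL t.notB (t.hd.inv_eq h2 hC.pre.inj t.dd) u.d u.memL u.notB
    (u.hd.inv_eq h2 hC.pre.inj u.dd)
  exact hv (ho t.d t.memL u.d u.memL v).1

theorem rel_trans {c d e : Subgroup P × Subgroup P} (hc : c ∈ 𝒞) (hd : d ∈ 𝒞) (he : e ∈ 𝒞)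
    (h1 : Rel σ c d) (h2 : Rel σ d e) : Rel σ c e := by
  rcases eq_or_ne c d with rfl | hcd
  · exact h2
  rcases eq_or_ne d e with rfl | hde
  · exact h1
  rcases eq_or_ne c e with rfl | hce
  · exact Or.inl rfl
  exact Or.inr (not_orth_of_linked hC hc he (hC.link_trans c hc d hd e he hce
    ((hC.dich c hc d hd hcd).resolve_left (h1.resolve_left hcd))
    ((hC.dich d hd e he hde).resolve_left (h2.resolve_left hde))))

theorem blk_eq {c d : Subgroup P × Subgroup P} (hc : c ∈ 𝒞) (hd : d ∈ blk σ 𝒞 c) :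
    blk σ 𝒞 d = blk σ 𝒞 c :=
  Set.ext fun _ => ⟨fun he => ⟨he.1, rel_trans hC hc hd.1 he.1 hd.2 he.2⟩,
    fun he => ⟨he.1, rel_trans hC hd.1 hc he.1 hd.2.symm he.2⟩⟩

omit hC [Finite P] [Finite V] [Fact p.Prime] in
theorem blk_subset (B : Blk σ 𝒞) : B.1 ⊆ 𝒞 := by
  obtain ⟨c, -, e⟩ := B.2
  rw [← e]; exact fun d hd => hd.1

omit hC [Finite P] [Finite V] [Fact p.Prime] in
theorem blk_nonempty (B : Blk σ 𝒞) : B.1.Nonempty := by
  obtain ⟨c, hc, e⟩ := B.2
  exact ⟨c, e ▸ ⟨hc, Or.inl rfl⟩⟩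

theorem blk_of_mem (B : Blk σ 𝒞) {c : Subgroup P × Subgroup P} (hc : c ∈ B.1) : blk σ 𝒞 c = B.1 := by
  obtain ⟨c₀, hc₀, e⟩ := B.2
  rw [← e] at hc ⊢
  exact blk_eq hC hc₀ hc

theorem blk_unique {B B' : Blk σ 𝒞} {c : Subgroup P × Subgroup P} (h : c ∈ B.1) (h' : c ∈ B'.1) :
    B = B' :=
  Subtype.ext ((blk_of_mem hC B h).symm.trans (blk_of_mem hC B' h'))

/-- Different classes have orthogonal groups. -/
theorem orth_blk {B B' : Blk σ 𝒞} (hne : B ≠ B') : Orth σ (grpsJoin B.1) (grpsJoin B'.1) := by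
  refine (Orth.iSup_right hC.pre.inj fun d => (Orth.iSup_right hC.pre.inj fun c => ?_).symm)
  by_contra ho
  refine hne (blk_unique hC c.2 ?_)
  rw [← blk_of_mem hC B' d.2]
  exact ⟨blk_subset B c.2, Or.inr ho⟩

omit hC in
theorem grps_eq_iSup : grpsJoin 𝒞 = ⨆ B : Blk σ 𝒞, grpsJoin B.1 := by
  refine le_antisymm (iSup_le fun c => le_iSup_of_le ⟨blk σ 𝒞 c.1, c.1, c.2, rfl⟩
    (le_iSup (fun d : blk σ 𝒞 c.1 => d.1.2) ⟨c.1, c.2, Or.inl rfl⟩)) (iSup_le fun B =>
      iSup_le fun d => le_iSup (fun c : 𝒞 => c.1.2) ⟨d.1, blk_subset B d.2⟩)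

/-- `V` is the fixed space of the groups plus the commutators of the cells. -/
theorem mem_decomp (v : V) :
    v ∈ fix σ (grpsJoin 𝒞) ⊔ ⨆ c : 𝒞, commSub σ c.1.2 := by
  classical
  haveI : Fintype 𝒞 := Fintype.ofFinite _
  set F := hC.pre.fam
  set U := ⨆ c : 𝒞, commSub σ c.1.2
  have h10 : ∀ c : 𝒞, ∃ w, (F.data c).ψ w = ![1, 0] := fun c => (F.data c).surj _
  choose e he using h10
  set t := ∑ c, (σ ((F.data c).low ((F.data c).ψ v 1)) (e c) - e c) with htdef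
  have htU : t ∈ U := sum_mem fun c _ =>
    le_iSup (fun c : 𝒞 => commSub σ c.1.2) c (sub_mem_commSub ((F.data c).low_mem _) _)
  have ht : ∀ c, (F.data c).ψ t 1 = (F.data c).ψ v 1 := fun c => by
    rw [htdef, map_sum, Finset.sum_apply, Finset.sum_eq_single c
      (fun d _ hd => (F.data c).mem_fix_iff.1 (F.low_sub_fix hd.symm _ _))
      (fun h => absurd (Finset.mem_univ c) h), (F.data c).ψ_low_sub, he]
    simp
  set v' := v - t
  have h01 : ∀ c : 𝒞, ∃ w, (F.data c).ψ w = ![0, (F.data c).ψ v' 0] := fun c => (F.data c).surj _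
  choose f hf using h01
  set l := ∑ c, (σ ((F.data c).u 1) (f c) - f c) with hldef
  have hlU : l ∈ U := sum_mem fun c _ =>
    le_iSup (fun c : 𝒞 => commSub σ c.1.2) c (sub_mem_commSub ((F.data c).u_memL _) _)
  have hl : ∀ c, (F.data c).ψ l = ![(F.data c).ψ v' 0, 0] := fun c => by
    rw [hldef, map_sum, Finset.sum_eq_single c
      (fun d _ hd => F.ψ_root_sub_ne hd.symm ((F.data d).u_mem 1) _)
      (fun h => absurd (Finset.mem_univ c) h), (F.data c).ψ_apply_sub, hf]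
    simp
  have hfix : v' - l ∈ fix σ (grpsJoin 𝒞) := F.mem_fix_grps.2 fun c => by
    rw [map_sub, hl, sub_eq_zero]
    ext i; fin_cases i
    · rfl
    · simp [v', ht]
  have e0 : v = (v' - l) + (t + l) := by simp [v']
  rw [e0]
  exact add_mem (AddSubgroup.mem_sup_left hfix) (AddSubgroup.mem_sup_right (add_mem htU hlU))

/-- The classes form a direct product. -/
theorem inf_iSup_eq_bot (B : Blk σ 𝒞) :
    grpsJoin B.1 ⊓ (⨆ B' : {B' : Blk σ 𝒞 // B' ≠ B}, grpsJoin B'.1.1) = ⊥ := by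
  refine (Subgroup.eq_bot_iff_forall _).2 fun x hx => ?_
  obtain ⟨hxB, hxR⟩ := Subgroup.mem_inf.1 hx
  have ho : Orth σ (grpsJoin B.1) (⨆ B' : {B' : Blk σ 𝒞 // B' ≠ B}, grpsJoin B'.1.1) :=
    Orth.iSup_right hC.pre.inj fun B' => orth_blk hC (Ne.symm B'.2)
  have hxG : x ∈ grpsJoin 𝒞 :=
    grps_eq_iSup.ge (le_iSup (fun B : Blk σ 𝒞 => grpsJoin B.1) B hxB)
  have hcomm : ∀ c : 𝒞, ∀ w ∈ commSub σ c.1.2, σ x w = w := by
    intro c w hw
    refine fix_commSub (fun y hy v => ?_) hw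
    set B' : Blk σ 𝒞 := ⟨blk σ 𝒞 c.1, c.1, c.2, rfl⟩
    have hy' : y ∈ grpsJoin B'.1 :=
      le_iSup (fun d : blk σ 𝒞 c.1 => d.1.2) ⟨c.1, c.2, Or.inl rfl⟩ hy
    rcases eq_or_ne B' B with e | hne
    · exact (ho y (e ▸ hy') x hxR v).2
    · exact (orth_blk hC hne.symm x hxB y hy' v).1
  refine hC.pre.inj (AddMonoidHom.ext fun v => ?_)
  show σ x v = σ 1 v
  rw [apply_one]
  obtain ⟨a, ha, b, hb, rfl⟩ := AddSubgroup.mem_sup.1 (mem_decomp hC v)
  rw [map_add, ha x hxG]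
  congr 1
  induction hb using AddSubgroup.iSup_induction' with
  | hp c w hw => exact hcomm c w hw
  | h1 => exact map_zero _
  | hadd a b _ _ h1 h2 => rw [map_add, h1, h2]

theorem cj_blk {t : P} (ht : t ∈ T) {c : Subgroup P × Subgroup P} (_hc : c ∈ 𝒞) :
    (fun d : Subgroup P × Subgroup P => (cj t d.1, cj t d.2)) '' blk σ 𝒞 c =
      blk σ 𝒞 (cj t c.1, cj t c.2) := by
  refine Set.ext fun e => ⟨?_, fun he => ?_⟩
  · rintro ⟨d, hd, rfl⟩
    exact ⟨hC.pre.equiv t ht d hd.1, hd.2.map_cj t⟩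
  · refine ⟨(cj t⁻¹ e.1, cj t⁻¹ e.2), ⟨hC.pre.equiv _ (inv_mem ht) e he.1, ?_⟩, by
      simp [cj_cj_inv]⟩
    simpa [cj_inv_cj] using he.2.map_cj t⁻¹

/-- The classes are conjugate under `T`. -/
theorem exists_cj_blk (B B' : Blk σ 𝒞) :
    ∃ t ∈ T, cj t (grpsJoin B.1) = grpsJoin B'.1 ∧ Nat.card B.1 = Nat.card B'.1 := by
  obtain ⟨c, hc⟩ := blk_nonempty B
  obtain ⟨d, hd⟩ := blk_nonempty B'
  obtain ⟨t, ht, h1, h2⟩ := hC.trans c (blk_subset B hc) d (blk_subset B' hd)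
  have e : (fun d : Subgroup P × Subgroup P => (cj t d.1, cj t d.2)) '' B.1 = B'.1 := by
    rw [← blk_of_mem hC B hc, cj_blk hC ht (blk_subset B hc), h1, h2, blk_of_mem hC B' hd]
  refine ⟨t, ht, ?_, ?_⟩
  · refine le_antisymm ?_ ?_
    · rw [grpsJoin, cj, Subgroup.map_iSup]
      exact iSup_le fun x => le_iSup (fun y : B'.1 => y.1.2)
        ⟨(cj t x.1.1, cj t x.1.2), e.le ⟨x.1, x.2, rfl⟩⟩
    · refine iSup_le fun y => ?_
      obtain ⟨x, hx, hxy⟩ := e.ge y.2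
      rw [← hxy]
      exact cj_mono (le_iSup (fun x : B.1 => x.1.2) ⟨x, hx⟩)
  · rw [← e, Nat.card_image_of_injective fun x y hxy => ?_]
    have h1 : cj t x.1 = cj t y.1 := congrArg Prod.fst hxy
    have h2 : cj t x.2 = cj t y.2 := congrArg Prod.snd hxy
    exact Prod.ext (by rw [← cj_inv_cj t x.1, h1, cj_inv_cj]) (by rw [← cj_inv_cj t x.2, h2, cj_inv_cj])

/-- A class has prime-power size. -/
theorem exists_card_eq_pow (B : Blk σ 𝒞) : ∃ j, Nat.card B.1 = p ^ j := by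
  let S : Subgroup P :=
    { carrier := {t | t ∈ T ∧ ∀ c ∈ B.1, (cj t c.1, cj t c.2) ∈ B.1}
      one_mem' := ⟨one_mem T, fun c hc => by rwa [cj_one, cj_one]⟩
      mul_mem' := fun {a b} ha hb => ⟨mul_mem ha.1 hb.1, fun c hc => by
        have := ha.2 _ (hb.2 c hc)
        rwa [cj_cj, cj_cj] at this⟩
      inv_mem' := fun {a} ha => ⟨inv_mem ha.1, fun c hc => by
        have e := cj_blk hC ha.1 (blk_subset B hc)
        rw [blk_of_mem hC B (ha.2 c hc), blk_of_mem hC B hc] at e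
        obtain ⟨d, hd, hde⟩ := e.ge hc
        rw [← hde]
        simpa [cj_inv_cj] using hd⟩ }
  letI : MulAction S B.1 :=
    { smul := fun t c => ⟨(cj (t : P) c.1.1, cj (t : P) c.1.2), t.2.2 c.1 c.2⟩
      one_smul := fun c => Subtype.ext (Prod.ext (cj_one _) (cj_one _))
      mul_smul := fun a b c => Subtype.ext (Prod.ext (cj_cj _ _ _).symm (cj_cj _ _ _).symm) }
  obtain ⟨c, hc⟩ := blk_nonempty B
  have hSp : IsPGroup p S := hC.pre.pgroup.to_le fun t ht => ht.1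
  obtain ⟨j, hj⟩ := hSp.card_orbit (⟨c, hc⟩ : B.1)
  refine ⟨j, ?_⟩
  rw [← hj]
  have htop : MulAction.orbit S (⟨c, hc⟩ : B.1) = Set.univ := by
    refine Set.eq_univ_of_forall fun d => ?_
    obtain ⟨t, ht, h1, h2⟩ := hC.trans c (blk_subset B hc) d.1 (blk_subset B d.2)
    refine ⟨⟨t, ht, fun x hx => ?_⟩, Subtype.ext (Prod.ext h1 h2)⟩
    have e := cj_blk hC ht (blk_subset B hc)
    rw [h1, h2, blk_of_mem hC B hc, blk_of_mem hC B d.2] at e
    exact e.le ⟨x, hx, rfl⟩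
  rw [htop, Nat.card_univ]

end CfsgLib.FFBlocks
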