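import Cfsg.Agent.FFBlocks.Bridge
import Cfsg.Agent.FFCells.Main
import Cfsg.Prelude.Def_LocalEven

/-!
A faithful p-minimal group with a best offender satisfies the hypotheses of the structure theorem.
-/

set_option autoImplicit false
set_option linter.style.haveILetI false

namespace CfsgLib.FFBlocks

open Subgroup CfsgLib.SL2Recognition CfsgLib.FFCells
open scoped IsMulCommutative commutatorElement

variable {G : Type*} [Group G] [Finite G] {p : ℕ} [Fact p.Prime] {V P : Subgroup G}

/-- A unique maximal subgroup over `T` gives the p-minimal setting. -/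
theorem pmin_of_unique {Q : Type*} [Group Q] [Finite Q] {T : Sylow p Q} {M : Subgroup Q}
    (hM : IsCoatom M) (hTM : (T : Subgroup Q) ≤ M)
    (huniq : ∀ M' : Subgroup Q, IsCoatom M' → (T : Subgroup Q) ≤ M' → M' = M) : PMin T M := by
  refine ⟨hTM, hM.1, fun X hX hne => ?_⟩
  obtain ⟨M', hM', hXM'⟩ := (eq_top_or_exists_le_coatom X).resolve_left hne
  exact (huniq M' hM' (hX.trans hXM')) ▸ hXM'

theorem exp_additive [IsMulCommutative V] (hV : Cfsg.IsElementaryAbelian p V) (w : Additive V) :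
    p • w = 0 :=
  Additive.toMul.injective (Subtype.ext (by
    show (((Additive.toMul w) ^ p : V) : G) = 1
    rw [Subgroup.coe_pow]; exact hV.2 _ (Additive.toMul w : V).2))

theorem act_self [IsMulCommutative V] (hPV : P ≤ normalizer (V : Set G))
    (hfaith : P ⊓ centralizer (V : Set G) = ⊥) : Act (MonoidHom.id P) (convRep hPV) := by
  refine ⟨hPV, Function.surjective_id, fun x w => rfl, ?_⟩
  rw [← MonoidHom.ker_eq_bot_iff, Subgroup.eq_bot_iff_forall]
  intro x hx
  exact Subtype.ext (mem_bot.1 (hfaith.le ⟨x.2, (convRep_eq_one_iff hPV).1 hx⟩))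

theorem card_fix_eq [IsMulCommutative V] {Q : Type*} [Group Q] {π : P →* Q}
    {σ : Q →* AddMonoid.End (Additive V)} (h : Act π σ) (Y : Subgroup Q) :
    Nat.card (fix σ Y) = Nat.card ↥(V ⊓ centralizer (up π Y : Set G)) :=
  Nat.card_congr
    { toFun := fun w => ⟨((Additive.toMul w.1 : V) : G),
        (Additive.toMul w.1 : V).2, h.mem_fix.1 w.2⟩
      invFun := fun v => ⟨Additive.ofMul (⟨v.1, v.2.1⟩ : V), h.mem_fix.2 v.2.2⟩
      left_inv := fun _ => rfl
      right_inv := fun _ => rfl }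

theorem exists_offender [IsMulCommutative V] (hV : Cfsg.IsElementaryAbelian p V)
    (hPV : P ≤ normalizer (V : Set G)) (hfaith : P ⊓ centralizer (V : Set G) = ⊥)
    (hoff : ∃ A : Subgroup G, A ≤ P ∧ ¬ A ≤ centralizer (V : Set G) ∧ Cfsg.IsBestOffenderOn p V A) :
    ∃ A, IsMinOff (convRep hPV) A := by
  obtain ⟨A, hAP, hAV, hbest, hcomm, hpow⟩ := hoff
  have hb : ∀ x ∈ P, x ∈ centralizer (V : Set G) → x = 1 := fun x hx hxV =>
    mem_bot.1 (hfaith.le ⟨hx, hxV⟩)
  have hAel : Cfsg.IsElementaryAbelian p (A.subgroupOf P) := by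
    refine ⟨⟨⟨fun a b => Subtype.ext (Subtype.ext ?_)⟩⟩, fun a ha => Subtype.ext ?_⟩
    · have h1 : ⁅((a : P) : G), ((b : P) : G)⁆ = 1 := hb _
        (by
          rw [commutatorElement_def]
          exact mul_mem (mul_mem (mul_mem (a : P).2 (b : P).2) (inv_mem (a : P).2)) (inv_mem (b : P).2))
        (hcomm (commutator_mem_commutator (mem_subgroupOf.1 a.2) (mem_subgroupOf.1 b.2)))
      exact commutatorElement_eq_one_iff_mul_comm.1 h1
    · show (a : G) ^ p = 1
      exact hb _ (pow_mem a.2 p) (hpow _ (mem_subgroupOf.1 ha))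
  have h := act_self hPV hfaith
  refine (exists_minOff h.inj (exp_additive hV) hAel (fun e => hAV ?_) ?_).imp fun _ h' => h'.2
  · intro a ha
    have : (⟨a, hAP ha⟩ : P) = 1 := mem_bot.1 (e.le (mem_subgroupOf.2 ha))
    rw [show a = 1 from congrArg Subtype.val this]
    exact one_mem _
  · have h1 := hbest ⊥ bot_le
    have e : V ⊓ centralizer ((⊥ : Subgroup G) : Set G) = V := inf_eq_left.2 fun v _ =>
      mem_centralizer_iff.2 fun y hy => by rw [mem_bot.1 hy, one_mul, mul_one]
    rw [card_bot, one_mul, e] at h1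
    rw [wt, card_fix_eq h, show up (MonoidHom.id P) (A.subgroupOf P) = A from
      map_subgroupOf_eq_of_le hAP, Nat.card_congr (subgroupOfEquivOfLe hAP).toEquiv]
    exact (Nat.card_congr Additive.toMul).le.trans h1

theorem pcore_spec {Q : Type*} [Group Q] (hOp : Cfsg.pCore p Q = ⊥) (N : Subgroup Q) (hN : N.Normal)
    (hNp : IsPGroup p N) : N = ⊥ :=
  le_bot_iff.1 (hOp ▸ le_sSup ⟨hN, hNp⟩)

end CfsgLib.FFBlocks
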