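import Cfsg.Agent.FFBlocks.Decomp
import Mathlib.GroupTheory.Perm.ClosureSwap

/-!
A class of `k ≥ 2` linked cells is the symmetric group of degree `2k + 1` on its even-weight module.
-/

set_option autoImplicit false
set_option linter.style.haveILetI false
set_option linter.unusedSectionVars false

namespace CfsgLib.FFBlocks

open Subgroup CfsgLib.SL2Recognition CfsgLib.FFCells

theorem apply_swap_eq {I : Type*} [DecidableEq I] (w : I → ZMod 2) {x y : I} (hxy : x ≠ y) (i : I) :
    w (Equiv.swap x y i) =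
      w i + (w x + w y) * ((if i = x then 1 else 0) + (if i = y then 1 else 0)) := by
  have key : ∀ a b : ZMod 2, b = a + (a + b) ∧ a = b + (a + b) := by decide
  by_cases hx : i = x
  · subst hx
    rw [Equiv.swap_apply_left, if_pos rfl, if_neg hxy, add_zero, mul_one]
    exact (key (w i) (w y)).1
  · by_cases hy : i = y
    · subst hy
      rw [Equiv.swap_apply_right, if_neg hx, if_pos rfl, zero_add, mul_one]
      exact (key (w x) (w i)).2
    · rw [Equiv.swap_apply_of_ne_of_ne hx hy, if_neg hx, if_neg hy, add_zero, mul_zero, add_zero]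

/-- A permutation fixing every even vector is trivial when there are three points. -/
theorem eq_one_of_fix_even {I : Type*} [Fintype I] [DecidableEq I] (h3 : 2 < Fintype.card I)
    {π : Equiv.Perm I} (h : ∀ w : I → ZMod 2, ∑ i, w i = 0 → ∀ i, w (π i) = w i) : π = 1 := by
  refine Equiv.ext fun x => ?_
  by_contra hne
  obtain ⟨z, -, hz⟩ := Finset.exists_mem_notMem_of_card_lt_card (s := ({x, π x} : Finset I))
    (t := Finset.univ) (Finset.card_le_two.trans_lt (by rwa [Finset.card_univ]))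
  simp only [Finset.mem_insert, Finset.mem_singleton, not_or] at hz
  have hev : ∑ i, ((if i = x then (1 : ZMod 2) else 0) + (if i = z then 1 else 0)) = 0 := by
    rw [Finset.sum_add_distrib, Finset.sum_ite_eq', Finset.sum_ite_eq', if_pos (Finset.mem_univ _),
      if_pos (Finset.mem_univ _)]
    rfl
  have hne' : π x ≠ x := hne
  have h1 := h _ hev x
  rw [if_pos rfl, if_neg (Ne.symm hz.1), if_neg hne', if_neg (Ne.symm hz.2)] at h1
  exact absurd h1 (by decide)

/-- Transpositions through one point generate the symmetric group. -/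
theorem eq_top_of_swaps {I : Type*} [Fintype I] [DecidableEq I] {H : Subgroup (Equiv.Perm I)}
    (z : I) (h : ∀ x, Equiv.swap x z ∈ H) : H = ⊤ := by
  rw [eq_top_iff, ← Equiv.Perm.closure_isSwap]
  refine (closure_le H).2 ?_
  rintro _ ⟨x, y, hxy, rfl⟩
  show Equiv.swap x y ∈ H
  rcases eq_or_ne x z with rfl | hxz
  · rw [Equiv.swap_comm]; exact h y
  rcases eq_or_ne y z with rfl | hyz
  · exact h x
  have e : Equiv.swap x z * Equiv.swap y z * Equiv.swap x z = Equiv.swap x y := by
    have h1 := Equiv.swap_apply_apply (Equiv.swap x z) y z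
    rw [Equiv.swap_apply_of_ne_of_ne hxy.symm hyz, Equiv.swap_apply_right, Equiv.swap_inv,
      Equiv.swap_comm y x] at h1
    exact h1.symm
  rw [← e]
  exact mul_mem (mul_mem (h x) (h y)) (h x)

section Abstract

variable {P V : Type*} [Group P] [Finite P] [AddCommGroup V] [Finite V] {σ : P →* AddMonoid.End V}

theorem sum_sc {ι : Type*} [Fintype ι] (f : V →+ ZMod 2) (x : ι → ZMod 2) (d : ι → V) :
    f (∑ i, sc (x i) (d i)) = ∑ i, x i * f (d i) := by
  rw [map_sum]; exact Finset.sum_congr rfl fun i _ => map_sc_zmod f _ _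

/-- A family of triples with the linked Gram matrix generates a symmetric group on its even module, with the images of the transvections. -/
theorem exists_sym_of_gram' {ι : Type*} [Fintype ι] [DecidableEq ι] [Nonempty ι]
    (hinj : Function.Injective σ) (h2 : ∀ v : V, v + v = 0) {A L : ι → Subgroup P}
    (t : ∀ i, Triple σ (A i) (L i)) (hAL : ∀ i, A i ≤ L i)
    (haa : ∀ i j, (t i).fa (t j).α = 0) (had : ∀ i j, i ≠ j → (t i).fa (t j).δ = 0)
    (hda : ∀ i j, i ≠ j → (t i).fd (t j).α = 0) (hdd : ∀ i j, i ≠ j → (t i).fd (t j).δ = 1) :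
    ∃ (ρ : ↥(⨆ i, L i) ≃* Equiv.Perm (Option (ι × Bool))) (ψ : V →+ (Option (ι × Bool) → ZMod 2)),
      (∀ v, ∑ i, ψ v i = 0) ∧
      (∀ w : Option (ι × Bool) → ZMod 2, ∑ i, w i = 0 →
        ∃ v ∈ commSub σ (⨆ i, L i), ψ v = w) ∧
      (∀ v, ψ v = 0 ↔ v ∈ fix σ (⨆ i, L i)) ∧
      (∀ (g : ↥(⨆ i, L i)) (v : V) (i : Option (ι × Bool)), ψ (σ g v) i = ψ v ((ρ g)⁻¹ i)) ∧
      (∀ v ∈ commSub σ (⨆ i, L i), ψ v = 0 → v = 0) ∧
      (∀ i (h : (t i).a ∈ ⨆ i, L i), ρ ⟨(t i).a, h⟩ = Equiv.swap (some (i, false)) (some (i, true))) ∧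
      ∀ i (h : (t i).d ∈ ⨆ i, L i), ρ ⟨(t i).d, h⟩ = Equiv.swap (some (i, true)) none := by
  classical
  set E := ⨆ i, L i with hEdef
  have haE : ∀ i, (t i).a ∈ E := fun i => le_iSup L i (hAL i (t i).memB)
  have hdE : ∀ i, (t i).d ∈ E := fun i => le_iSup L i (t i).memL
  have k2 : ∀ a : ZMod 2, a + a = 0 := by decide
  have k3 : ∀ a b c : ZMod 2, a + (b + c) + (a + c) = b ∧ (b + c + a) + (b + c) = a := by decide
  -- the coordinates
  let S : V →+ ZMod 2 := ∑ i, (t i).fa
  let ψ : V →+ (Option (ι × Bool) → ZMod 2) :=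
    AddMonoidHom.pi fun o => match o with
      | none => S
      | some (i, true) => (t i).fd + S
      | some (i, false) => (t i).fa + (t i).fd + S
  have hψn : ∀ v, ψ v none = ∑ i, (t i).fa v := fun v => by
    show S v = _
    exact AddMonoidHom.finsetSum_apply _ _ _
  have hψt : ∀ v i, ψ v (some (i, true)) = (t i).fd v + ψ v none := fun _ _ => rfl
  have hψf : ∀ v i, ψ v (some (i, false)) = (t i).fa v + (t i).fd v + ψ v none := fun _ _ => rfl
  have hfa : ∀ v i, (t i).fa v = ψ v (some (i, false)) + ψ v (some (i, true)) := fun v i => by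
    rw [hψt, hψf]
    generalize (t i).fa v = a, (t i).fd v = b, ψ v none = c
    revert a b c; decide
  have hfd : ∀ v i, (t i).fd v = ψ v (some (i, true)) + ψ v none := fun v i => by
    rw [hψt, add_assoc, k2, add_zero]
  have heven : ∀ v, ∑ i, ψ v i = 0 := fun v => by
    rw [Fintype.sum_option, Fintype.sum_prod_type]
    have e : ∀ i, ∑ b : Bool, ψ v (some (i, b)) = (t i).fa v := fun i => by
      rw [Fintype.sum_bool, hfa, add_comm]
    rw [Finset.sum_congr rfl fun i _ => e i, hψn, k2]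
  have hzero : ∀ v, ψ v = 0 ↔ ∀ i, (t i).fa v = 0 ∧ (t i).fd v = 0 := fun v => by
    refine ⟨fun h i => by rw [hfa, hfd, h]; simp, fun h => funext fun o => ?_⟩
    have h0 : ψ v none = 0 := by rw [hψn]; exact Finset.sum_eq_zero fun i _ => (h i).1
    rcases o with - | ⟨i, - | -⟩
    · exact h0
    · rw [hψf, (h i).1, (h i).2, h0]; rfl
    · rw [hψt, (h i).2, h0]; rfl
  -- values at the basic vectors
  have haα : ∀ i j, (t j).fa (t i).α = 0 := fun i j => haa j i
  have hdα : ∀ i j, (t j).fd (t i).α = if j = i then 1 else 0 := fun i j => by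
    split_ifs with h
    · subst h; exact (t j).da
    · exact hda j i h
  have haδ : ∀ i j, (t j).fa (t i).δ = if j = i then 1 else 0 := fun i j => by
    split_ifs with h
    · subst h; exact (t j).ad
    · exact had j i h
  have hdδ : ∀ i j, (t j).fd (t i).δ = if j = i then 0 else 1 := fun i j => by
    split_ifs with h
    · subst h; exact (t j).dd
    · exact hdd j i h
  have hψα : ∀ i o, ψ (t i).α o = (if o = some (i, false) then 1 else 0) +
      (if o = some (i, true) then 1 else 0) := by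
    intro i o
    have h0 : ψ (t i).α none = 0 := by rw [hψn]; exact Finset.sum_eq_zero fun j _ => haα i j
    rcases o with - | ⟨j, - | -⟩
    · rw [h0]; simp
    · rw [hψf, h0, haα, hdα]; simp
    · rw [hψt, h0, hdα]; simp
  have hψδ : ∀ i o, ψ (t i).δ o = (if o = some (i, true) then 1 else 0) +
      (if o = none then 1 else 0) := by
    intro i o
    have h0 : ψ (t i).δ none = 1 := by
      rw [hψn, Finset.sum_congr rfl fun j _ => haδ i j, Finset.sum_ite_eq', if_pos (Finset.mem_univ _)]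
    rcases o with - | ⟨j, - | -⟩
    · rw [h0]; simp
    · rw [hψf, h0, haδ, hdδ, if_neg (by simp : ¬ (some (j, false) = some (i, true))),
        if_neg (by simp : ¬ (some (j, false) = (none : Option (ι × Bool))))]
      split_ifs <;> decide
    · rw [hψt, h0, hdδ, if_neg (by simp : ¬ (some (j, true) = (none : Option (ι × Bool))))]
      by_cases h : j = i
      · subst h; rw [if_pos rfl, if_pos rfl]; decide
      · rw [if_neg h, if_neg (by simpa using h)]; decide
  -- the generators act as transpositions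
  have hact : ∀ (g : P) (d : V) (f : V →+ ZMod 2) (x y : Option (ι × Bool)), IsTrv σ g d f → x ≠ y →
      (∀ v, f v = ψ v x + ψ v y) →
      (∀ o, ψ d o = (if o = x then 1 else 0) + (if o = y then 1 else 0)) →
      ∀ v o, ψ (σ g v) o = ψ v (Equiv.swap x y o) := by
    intro g d f x y hg hxy hf hd v o
    rw [hg v, map_add, Pi.add_apply, apply_swap_eq (ψ v) hxy, ← hd, ← hf]
    rcases zmod_two_cases (f v) with e | e <;> simp [e]
  let G₀ : Subgroup P :=
    { carrier := {g | ∃ π : Equiv.Perm (Option (ι × Bool)), ∀ v o, ψ (σ g v) o = ψ v (π⁻¹ o)}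
      one_mem' := ⟨1, fun v o => by rw [apply_one]; rfl⟩
      mul_mem' := fun {g k} hg hk => by
        obtain ⟨π, hπ⟩ := hg
        obtain ⟨π', hπ'⟩ := hk
        exact ⟨π * π', fun v o => by rw [apply_mul, hπ, hπ', _root_.mul_inv_rev]; rfl⟩
      inv_mem' := fun {g} hg => by
        obtain ⟨π, hπ⟩ := hg
        refine ⟨π⁻¹, fun v o => ?_⟩
        have := hπ (σ g⁻¹ v) (π o)
        rw [apply_apply_inv, Equiv.Perm.inv_def, Equiv.symm_apply_apply] at this
        rw [← this, inv_inv] }
  have hgenA : ∀ i v o, ψ (σ (t i).a v) o =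
      ψ v (Equiv.swap (some (i, false)) (some (i, true)) o) :=
    fun i => hact _ _ _ _ _ (t i).ha (by simp) (fun v => hfa v i) (hψα i)
  have hgenD : ∀ i v o, ψ (σ (t i).d v) o = ψ v (Equiv.swap (some (i, true)) none o) :=
    fun i => hact _ _ _ _ _ (t i).hd (by simp) (fun v => hfd v i) (hψδ i)
  have hEG₀ : E ≤ G₀ := iSup_le fun i => (t i).gen G₀
    ⟨Equiv.swap (some (i, false)) (some (i, true)), fun v o => by rw [hgenA, Equiv.swap_inv]⟩
    ⟨Equiv.swap (some (i, true)) none, fun v o => by rw [hgenD, Equiv.swap_inv]⟩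
  -- a section of `ψ` spanned by commutators
  let Λ : (ι → ZMod 2) → (ι → ZMod 2) → V := fun a b =>
    ∑ i, (sc (a i) (t i).δ + sc (b i + (∑ j, a j) + a i) (t i).α)
  have hΛa : ∀ a b i, (t i).fa (Λ a b) = a i := fun a b i => by
    show (t i).fa (∑ j, (sc (a j) (t j).δ + sc (b j + (∑ j, a j) + a j) (t j).α)) = _
    rw [Finset.sum_add_distrib, map_add, sum_sc, sum_sc]
    simp [haα, haδ, Finset.sum_ite_eq]
  have hΛd : ∀ a b i, (t i).fd (Λ a b) = b i := fun a b i => by
    show (t i).fd (∑ j, (sc (a j) (t j).δ + sc (b j + (∑ j, a j) + a j) (t j).α)) = _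
    rw [Finset.sum_add_distrib, map_add, sum_sc, sum_sc]
    simp only [hdα, hdδ, mul_ite, mul_one, mul_zero, Finset.sum_ite_eq, Finset.mem_univ, if_true]
    have e : ∑ j, (if i = j then 0 else a j) = (∑ j, a j) + a i := by
      rw [← Finset.add_sum_erase _ _ (Finset.mem_univ i), ← Finset.add_sum_erase _ a (Finset.mem_univ i),
        if_pos rfl, zero_add, Finset.sum_congr rfl fun j hj => if_neg (Ne.symm (Finset.ne_of_mem_erase hj))]
      generalize ∑ j ∈ Finset.univ.erase i, a j = s, a i = x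
      revert s x; decide
    rw [e]
    generalize ∑ j, a j = s, a i = x, b i = y
    revert s x y; decide
  have hmemα : ∀ i, (t i).α ∈ commSub σ E := fun i => by
    have := sub_mem_commSub (σ := σ) (haE i) (t i).δ
    rwa [(t i).ha.sub, (t i).ad, sc_one] at this
  have hmemδ : ∀ i, (t i).δ ∈ commSub σ E := fun i => by
    have := sub_mem_commSub (σ := σ) (hdE i) (t i).α
    rwa [(t i).hd.sub, (t i).da, sc_one] at this
  have hsc : ∀ (U : AddSubgroup V) (x : ZMod 2) (u : V), u ∈ U → sc x u ∈ U := fun U x u hu => by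
    rcases zmod_two_cases x with rfl | rfl
    · exact zero_mem U
    · exact hu
  have hΛmem : ∀ a b, Λ a b ∈ commSub σ E := fun a b =>
    sum_mem fun i _ => add_mem (hsc _ _ _ (hmemδ i)) (hsc _ _ _ (hmemα i))
  have hsurj : ∀ w : Option (ι × Bool) → ZMod 2, ∑ i, w i = 0 → ∃ v ∈ commSub σ E, ψ v = w := by
    intro w hw
    set a : ι → ZMod 2 := fun i => w (some (i, false)) + w (some (i, true))
    set b : ι → ZMod 2 := fun i => w (some (i, true)) + w none
    refine ⟨Λ a b, hΛmem a b, ?_⟩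
    have h0 : ψ (Λ a b) none = w none := by
      rw [hψn, Finset.sum_congr rfl fun i _ => hΛa a b i]
      rw [Fintype.sum_option, Fintype.sum_prod_type] at hw
      have e : ∑ i, a i = ∑ i, ∑ c : Bool, w (some (i, c)) :=
        Finset.sum_congr rfl fun i _ => by rw [Fintype.sum_bool, add_comm]
      rw [← e] at hw
      generalize ∑ i, a i = s, w none = x at hw ⊢
      revert s x; decide
    funext o
    rcases o with - | ⟨i, - | -⟩
    · exact h0
    · rw [hψf, h0, hΛa, hΛd]
      simp only [a, b]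
      generalize w (some (i, false)) = x, w (some (i, true)) = y, w none = z
      revert x y z; decide
    · rw [hψt, h0, hΛd]
      simp only [b]
      generalize w (some (i, true)) = y, w none = z
      revert y z; decide
  -- the projection onto the span
  let R : V →+ V := AddMonoidHom.mk' (fun v => Λ (fun i => (t i).fa v) (fun i => (t i).fd v))
    fun v v' => by
      show Λ _ _ = Λ _ _ + Λ _ _
      rw [← Finset.sum_add_distrib]
      refine Finset.sum_congr rfl fun i _ => ?_
      simp only [map_add, Finset.sum_add_distrib]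
      conv_rhs => rw [add_add_add_comm, ← sc_add h2, ← sc_add h2]
      congr 2
      abel
  have hRα : ∀ i, R (t i).α = (t i).α := fun i => by
    show ∑ j, _ = _
    rw [Finset.sum_eq_single i]
    · simp [haα, hdα]
    · intro j _ hj; simp [haα, hdα, hj]
    · exact fun h => absurd (Finset.mem_univ i) h
  have hRδ : ∀ i, R (t i).δ = (t i).δ := fun i => by
    show ∑ j, _ = _
    have hs : ∑ k, (t k).fa (t i).δ = 1 := by simp [haδ]
    have e11 : (1 : ZMod 2) + 1 = 0 := by decide
    rw [Finset.sum_eq_single i]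
    · simp [haδ, hdδ, e11]
    · intro j _ hj; simp [haδ, hdδ, hj, e11]
    · exact fun h => absurd (Finset.mem_univ i) h
  let U : AddSubgroup V :=
    { carrier := {v | R v = v}
      zero_mem' := map_zero R
      add_mem' := fun {a b} ha hb => by
        show R (a + b) = a + b
        rw [map_add, show R a = a from ha, show R b = b from hb]
      neg_mem' := fun {a} ha => by
        show R (-a) = -a
        rw [map_neg, show R a = a from ha] }
  let G₁ : Subgroup P :=
    { carrier := {g | ∀ v, σ g v - v ∈ U}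
      one_mem' := fun v => by rw [apply_one, sub_self]; exact zero_mem U
      mul_mem' := fun {g k} hg hk v => by
        have e : σ (g * k) v - v = (σ g (σ k v) - σ k v) + (σ k v - v) := by rw [apply_mul]; abel
        rw [e]; exact add_mem (hg _) (hk v)
      inv_mem' := fun {g} hg v => by
        have e : σ g⁻¹ v - v = -(σ g (σ g⁻¹ v) - σ g⁻¹ v) := by rw [apply_apply_inv]; abel
        rw [e]; exact neg_mem (hg _) }
  have hEG₁ : E ≤ G₁ := iSup_le fun i => (t i).gen G₁
    (fun v => by rw [(t i).ha.sub]; exact hsc U _ _ (hRα i))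
    (fun v => by rw [(t i).hd.sub]; exact hsc U _ _ (hRδ i))
  have hfaith : ∀ g ∈ E, (∀ v, ψ (σ g v) = ψ v) → g = 1 := by
    intro g hg hgψ
    refine hinj (AddMonoidHom.ext fun v => ?_)
    show σ g v = σ 1 v
    rw [apply_one, ← sub_eq_zero]
    have h0 := (hzero (σ g v - v)).1 (by rw [map_sub, hgψ, sub_self])
    rw [← show R (σ g v - v) = σ g v - v from hEG₁ hg v]
    show ∑ i, _ = _
    refine Finset.sum_eq_zero fun i _ => ?_
    simp only [fun j => (h0 j).1, fun j => (h0 j).2, Finset.sum_const_zero, add_zero, sc_zero]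
  -- the homomorphism
  have h3 : 2 < Fintype.card (Option (ι × Bool)) := by
    rw [Fintype.card_option, Fintype.card_prod, Fintype.card_bool]
    have := Fintype.card_pos (α := ι)
    omega
  have huniq : ∀ π π' : Equiv.Perm (Option (ι × Bool)),
      (∀ v o, ψ v (π⁻¹ o) = ψ v (π'⁻¹ o)) → π = π' := by
    intro π π' h
    have e : π⁻¹ * π' = 1 := eq_one_of_fix_even h3 fun w hw o => by
      obtain ⟨v, -, rfl⟩ := hsurj w hw
      rw [Equiv.Perm.mul_apply, h v (π' o)]
      simp
    exact inv_mul_eq_one.1 e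
  have hex : ∀ g : E, ∃ π : Equiv.Perm (Option (ι × Bool)), ∀ v o, ψ (σ g v) o = ψ v (π⁻¹ o) :=
    fun g => hEG₀ g.2
  choose r hr using hex
  let ρ₀ : E →* Equiv.Perm (Option (ι × Bool)) := MonoidHom.mk' r fun g k => huniq _ _ fun v o => by
    rw [← hr, Subgroup.coe_mul, apply_mul, hr, hr, _root_.mul_inv_rev]
    rfl
  have hρinj : Function.Injective ρ₀ := by
    rw [← MonoidHom.ker_eq_bot_iff, Subgroup.eq_bot_iff_forall]
    intro g hg
    refine Subtype.ext (hfaith g g.2 fun v => funext fun o => ?_)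
    rw [hr g, show r g = 1 from hg]
    rfl
  have hρsurj : Function.Surjective ρ₀ := by
    rw [← MonoidHom.range_eq_top]
    have hA : ∀ i, Equiv.swap (some (i, false)) (some (i, true)) ∈ ρ₀.range := fun i =>
      ⟨⟨_, haE i⟩, huniq _ _ fun v o => by
        rw [show ρ₀ ⟨_, haE i⟩ = r ⟨_, haE i⟩ from rfl, ← hr, hgenA, Equiv.swap_inv]⟩
    have hD : ∀ i, Equiv.swap (some (i, true)) none ∈ ρ₀.range := fun i =>
      ⟨⟨_, hdE i⟩, huniq _ _ fun v o => by
        rw [show ρ₀ ⟨_, hdE i⟩ = r ⟨_, hdE i⟩ from rfl, ← hr, hgenD, Equiv.swap_inv]⟩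
    refine eq_top_of_swaps none fun o => ?_
    rcases o with - | ⟨i, - | -⟩
    · rw [Equiv.swap_self]; exact one_mem _
    · have e : Equiv.swap (some (i, true)) none * Equiv.swap (some (i, false)) (some (i, true)) *
          Equiv.swap (some (i, true)) none = Equiv.swap (some (i, false)) none := by
        have h1 := Equiv.swap_apply_apply (Equiv.swap (some (i, true)) (none : Option (ι × Bool)))
          (some (i, false)) (some (i, true))
        rw [Equiv.swap_apply_of_ne_of_ne (by simp) (by simp), Equiv.swap_apply_left, Equiv.swap_inv] at h1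
        exact h1.symm
      rw [← e]
      exact mul_mem (mul_mem (hD i) (hA i)) (hD i)
    · exact hD i
  refine ⟨MulEquiv.ofBijective ρ₀ ⟨hρinj, hρsurj⟩, ψ, heven, hsurj, fun v => ?_,
    fun g v o => hr g v o, fun v hv h0 => ?_,
    fun i hi => huniq _ _ fun v o => ((hr ⟨_, hi⟩ v o).symm.trans (hgenA i v o)).trans
      (by rw [Equiv.swap_inv]),
    fun i hi => huniq _ _ fun v o => ((hr ⟨_, hi⟩ v o).symm.trans (hgenD i v o)).trans
      (by rw [Equiv.swap_inv])⟩
  swap
  · have hU : v ∈ U := by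
      refine (AddSubgroup.closure_le U).2 ?_ hv
      rintro _ ⟨g, hg, w, rfl⟩
      exact hEG₁ hg w
    rw [← show R v = v from hU]
    show ∑ i, _ = _
    refine Finset.sum_eq_zero fun i _ => ?_
    simp only [fun j => ((hzero v).1 h0 j).1, fun j => ((hzero v).1 h0 j).2,
      Finset.sum_const_zero, add_zero, sc_zero]
  rw [hzero]
  refine ⟨fun h => fix_iSup _ fun i => ?_, fun hv i =>
    ⟨(t i).ha.apply_zero (t i).α_ne (hv _ (haE i)), (t i).hd.apply_zero (t i).δ_ne (hv _ (hdE i))⟩⟩
  let St : Subgroup P :=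
    { carrier := {g | σ g v = v}
      one_mem' := apply_one σ v
      mul_mem' := fun {g k} hg hk => by
        show σ (g * k) v = v
        rw [apply_mul, show σ k v = v from hk, show σ g v = v from hg]
      inv_mem' := fun {g} hg => by
        show σ g⁻¹ v = v
        conv_lhs => rw [← show σ g v = v from hg]
        rw [apply_inv_apply] }
  exact (t i).gen St (by show σ _ v = v; rw [(t i).ha v, (h i).1, sc_zero, add_zero])
    (by show σ _ v = v; rw [(t i).hd v, (h i).2, sc_zero, add_zero])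

/-- A family of triples with the linked Gram matrix generates a symmetric group on its even module. -/
theorem exists_sym_of_gram {ι : Type*} [Fintype ι] [DecidableEq ι] [Nonempty ι]
    (hinj : Function.Injective σ) (h2 : ∀ v : V, v + v = 0) {A L : ι → Subgroup P}
    (t : ∀ i, Triple σ (A i) (L i)) (hAL : ∀ i, A i ≤ L i)
    (haa : ∀ i j, (t i).fa (t j).α = 0) (had : ∀ i j, i ≠ j → (t i).fa (t j).δ = 0)
    (hda : ∀ i j, i ≠ j → (t i).fd (t j).α = 0) (hdd : ∀ i j, i ≠ j → (t i).fd (t j).δ = 1) :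
    ∃ (ρ : ↥(⨆ i, L i) ≃* Equiv.Perm (Option (ι × Bool))) (ψ : V →+ (Option (ι × Bool) → ZMod 2)),
      (∀ v, ∑ i, ψ v i = 0) ∧
      (∀ w : Option (ι × Bool) → ZMod 2, ∑ i, w i = 0 →
        ∃ v ∈ commSub σ (⨆ i, L i), ψ v = w) ∧
      (∀ v, ψ v = 0 ↔ v ∈ fix σ (⨆ i, L i)) ∧
      ∀ (g : ↥(⨆ i, L i)) (v : V) (i : Option (ι × Bool)), ψ (σ g v) i = ψ v ((ρ g)⁻¹ i) := by
  obtain ⟨ρ, ψ, h1, h2', h3, h4, -⟩ := exists_sym_of_gram' hinj h2 t hAL haa had hda hdd
  exact ⟨ρ, ψ, h1, h2', h3, h4⟩

end Abstract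

variable {P V : Type*} [Group P] [Finite P] [AddCommGroup V] [Finite V] {σ : P →* AddMonoid.End V}
  {p : ℕ} [Fact p.Prime] {T : Subgroup P} {𝒞 : Set (Subgroup P × Subgroup P)}

/-- A class of linked cells. -/
theorem exists_sym (hC : Config σ p T 𝒞) (B : Blk σ 𝒞) (hk : 1 < Nat.card B.1) :
    p = 2 ∧ ∃ (n : ℕ), 1 ≤ n ∧ ∃ (ρ : ↥(grpsJoin B.1) ≃* Equiv.Perm (Fin (2 ^ n + 1)))
      (ψ : V →+ (Fin (2 ^ n + 1) → ZMod 2)),
      (∀ v, ∑ i, ψ v i = 0) ∧
      (∀ w : Fin (2 ^ n + 1) → ZMod 2, ∑ i, w i = 0 →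
        ∃ v ∈ commSub σ (grpsJoin B.1), ψ v = w) ∧
      (∀ v, ψ v = 0 ↔ v ∈ fix σ (grpsJoin B.1)) ∧
      ∀ (g : ↥(grpsJoin B.1)) (v : V) (i : Fin (2 ^ n + 1)), ψ (σ g v) i = ψ v ((ρ g)⁻¹ i) := by
  classical
  set F := hC.pre.fam
  haveI : Nonempty B.1 := (blk_nonempty B).to_subtype
  haveI : Fintype B.1 := Fintype.ofFinite _
  have hlink : ∀ c d : B.1, c ≠ d → Linked σ c.1 d.1 := fun c d hne => by
    have hne' : c.1 ≠ d.1 := fun e => hne (Subtype.ext e)
    refine (hC.dich c.1 (blk_subset B c.2) d.1 (blk_subset B d.2) hne').resolve_left ?_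
    have hd : d.1 ∈ blk σ 𝒞 c.1 := (blk_of_mem hC B c.2).ge d.2
    exact hd.2.resolve_left hne'
  haveI : Nontrivial B.1 := by
    rw [← Fintype.one_lt_card_iff_nontrivial, ← Nat.card_eq_fintype_card]; exact hk
  have hq : ∀ c : B.1, Nat.card c.1.1 = 2 := fun c => by
    obtain ⟨d, hd⟩ := exists_ne c
    exact (hlink c d (Ne.symm hd)).1
  obtain ⟨c₀⟩ := ‹Nonempty B.1›
  obtain ⟨hp, h2⟩ := add_self_of_card (F.data ⟨c₀.1, blk_subset B c₀.2⟩) hC.pre.exp (hq c₀)
  have hex : ∀ c : B.1, Nonempty (Triple σ c.1.1 c.1.2) := fun c =>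
    (F.data ⟨c.1, blk_subset B c.2⟩).exists_triple (hq c)
  let t : ∀ c : B.1, Triple σ c.1.1 c.1.2 := fun c => (hex c).some
  have hne : ∀ c d : B.1, c ≠ d →
      (⟨c.1, blk_subset B c.2⟩ : 𝒞) ≠ ⟨d.1, blk_subset B d.2⟩ := fun c d h e =>
    h (Subtype.ext (congrArg Subtype.val e :))
  have hcross := fun c d (h : c ≠ d) => F.cross (hne c d h) (t c) (t d)
  have hdd : ∀ c d, c ≠ d → (t c).fd (t d).δ = 1 := fun c d h => by
    obtain ⟨⟨v, hv⟩, -⟩ := (hlink c d h).2.2 (t c).d (t c).memL (t c).notB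
      ((t c).hd.inv_eq h2 hC.pre.inj (t c).dd) (t d).d (t d).memL (t d).notB
      ((t d).hd.inv_eq h2 hC.pre.inj (t d).dd)
    refine (zmod_two_cases _).resolve_left fun h0 => hv ?_
    rw [(t d).hd.sub, apply_sc (σ := σ) (t c).d, (t c).hd (t d).δ, h0, sc_zero, add_zero]
  obtain ⟨ρ, ψ, h1, hs, h0, he⟩ := exists_sym_of_gram hC.pre.inj h2 t
    (fun c => (F.data ⟨c.1, blk_subset B c.2⟩).le)
    (fun c d => by
      rcases eq_or_ne c d with rfl | h
      · exact (t c).aa
      · exact (hcross c d h).1)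
    (fun c d h => (hcross c d h).2.1) (fun c d h => (hcross c d h).2.2) hdd
  obtain ⟨j, hj⟩ := exists_card_eq_pow hC B
  rw [hp] at hj
  refine ⟨hp, j + 1, Nat.le_add_left 1 j, ?_⟩
  let e : Option (B.1 × Bool) ≃ Fin (2 ^ (j + 1) + 1) := Fintype.equivFinOfCardEq (by
    rw [Fintype.card_option, Fintype.card_prod, Fintype.card_bool, ← Nat.card_eq_fintype_card, hj,
      pow_succ])
  refine ⟨ρ.trans e.permCongrHom, (AddMonoidHom.mk' (fun w i => w (e.symm i)) fun _ _ => rfl).comp ψ,
    fun v => ?_, fun w hw => ?_, fun v => ?_, fun g v i => ?_⟩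
  · show ∑ i, ψ v (e.symm i) = 0
    rw [Equiv.sum_comp e.symm (ψ v)]; exact h1 v
  · obtain ⟨v, hv, hvw⟩ := hs (fun o => w (e o)) (by rw [Equiv.sum_comp e w]; exact hw)
    refine ⟨v, hv, funext fun i => ?_⟩
    show ψ v (e.symm i) = w i
    simp [hvw]
  · refine Iff.trans ⟨fun h => funext fun o => ?_, fun h => ?_⟩ (h0 v)
    · have := congrFun h (e o)
      simpa using this
    · funext i
      show ψ v (e.symm i) = 0
      rw [h]; rfl
  · show ψ (σ g v) (e.symm i) = ψ v (e.symm ((e.permCongrHom (ρ g))⁻¹ i))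
    refine (he g v _).trans ?_
    congr 1
    rw [← map_inv]
    simp [Equiv.permCongrHom, Equiv.permCongr_apply]

end CfsgLib.FFBlocks
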